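import Groth.Agent.ThickFin.Ring
import Groth.Agent.ModPairLib.Basic
import Groth.Agent.S3861
import Groth.Agent.ThickDeform.Basic
import Groth.Agent.MorLib.Thick.Mor
import Groth.Agent.S2156
import Groth.Agent.Pi1X.FEtFull
import Groth.Prelude.Def_Mor2
import Mathlib.AlgebraicGeometry.Morphisms.FlatRank

/-!
# Morphisms with a property after restriction to a finite order thickening
-/

set_option autoImplicit false
universe u
open AlgebraicGeometry CategoryTheory CategoryTheory.Limits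
set_option backward.isDefEq.respectTransparency.types false

namespace Groth.Agent.ThickFin

variable {X X' Y Y' S S' : Scheme.{u}} {iX : X ⟶ X'} {iY : Y ⟶ Y'} {iS : S ⟶ S'}

/-- Finite order thickenings are stable under base change. -/
theorem isFiniteOrderThickening_baseChange {g : Y ⟶ S} {g' : Y' ⟶ S'}
    (hS : MoreMor.IsFiniteOrderThickening iS) (hc : IsPullback iY g g' iS) :
    MoreMor.IsFiniteOrderThickening iY := by
  obtain ⟨hT, n, hn⟩ := hS
  haveI := hT.1
  refine ⟨ThickDeform.isThickening_baseChange hT hc, n, ?_⟩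
  have hcm : ∀ m : ℕ, (iS.ker ^ m).comap g' = iS.ker.comap g' ^ m := by
    intro m
    induction m with
    | zero =>
      rw [pow_zero, pow_zero, Scheme.IdealSheafData.one_eq_top, Scheme.IdealSheafData.one_eq_top,
        Scheme.IdealSheafData.comap_top]
    | succ m ih => rw [pow_succ, pow_succ, S3861.result, ih]
  rw [show iY = hc.isoPullback.hom ≫ pullback.fst g' iS from hc.isoPullback_hom_fst.symm,
    Scheme.Hom.ker_comp_of_isIso, Scheme.IdealSheafData.ker_fst_of_isClosedImmersion, ← hcm, hn,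
    Scheme.IdealSheafData.zero_eq_bot, Scheme.IdealSheafData.comap_bot, Scheme.IdealSheafData.zero_eq_bot]

/-- The affine charts of the base change of a closed immersion. -/
theorem chart {g : Y ⟶ S} {g' : Y' ⟶ S'} [IsClosedImmersion iS] (hc : IsPullback iY g g' iS)
    (U : S'.affineOpens) (V : Y'.affineOpens) (e : V.1 ≤ g' ⁻¹ᵁ U.1) :
    IsAffineOpen (iY ⁻¹ᵁ V.1) ∧ Function.Surjective (iY.app V.1).hom ∧
      RingHom.ker (iY.app V.1).hom = (iS.ker.ideal U).map (g'.appLE U.1 V.1 e).hom := by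
  haveI : IsClosedImmersion iY :=
    MorphismProperty.of_isPullback (P := (@IsClosedImmersion : MorphismProperty Scheme.{u})) hc.flip
      inferInstance
  refine ⟨V.2.preimage iY, ?_, ?_⟩
  · haveI : IsAffine (V.1 : Scheme.{u}) := V.2
    exact iY.app_surjective V.1 V.2
  · rw [← Scheme.Hom.ker_apply, show iY = hc.isoPullback.hom ≫ pullback.fst g' iS from
      hc.isoPullback_hom_fst.symm, Scheme.Hom.ker_comp_of_isIso,
      Scheme.IdealSheafData.ker_fst_of_isClosedImmersion, ModPairLib.ideal_comap _ _ U V e]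

theorem isNilpotent_ideal (hS : MoreMor.IsFiniteOrderThickening iS) (U : S'.affineOpens) :
    IsNilpotent (iS.ker.ideal U) := by
  obtain ⟨n, hn⟩ := hS.2
  exact ⟨n, by simpa using congr(($hn).ideal U)⟩

/-- Reduction of a property to ring maps, one thickened base. -/
theorem of_ring {P : MorphismProperty Scheme.{u}} {Q : ∀ {R T : Type u} [CommRing R] [CommRing T], (R →+* T) → Prop}
    [HasRingHomProperty P Q] {f : X ⟶ Y} {f' : X' ⟶ Y'} (hY : MoreMor.IsFiniteOrderThickening iY)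
    (hc : IsPullback iX f f' iY) (hf : P f)
    (H : ∀ {B C B₀ C₀ : CommRingCat.{u}} (φ : B ⟶ C) (qB : B ⟶ B₀) (qC : C ⟶ C₀) (φ₀ : B₀ ⟶ C₀),
      qB ≫ φ₀ = φ ≫ qC → Function.Surjective qB.hom → Function.Surjective qC.hom →
      IsNilpotent (RingHom.ker qB.hom) → RingHom.ker qC.hom = (RingHom.ker qB.hom).map φ.hom →
      Q φ₀.hom → Q φ.hom) : P f' := by
  haveI := hY.1.1
  rw [HasRingHomProperty.iff_appLE (P := P)]
  intro U V e
  obtain ⟨hVa, hVs, hVk⟩ := chart hc U V e
  have hUa : IsAffineOpen (iY ⁻¹ᵁ U.1) := U.2.preimage iY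
  have hle : iX ⁻¹ᵁ V.1 ≤ f ⁻¹ᵁ (iY ⁻¹ᵁ U.1) := by
    rw [← Scheme.Hom.comp_preimage, ← hc.w, Scheme.Hom.comp_preimage]
    exact fun x hx => e hx
  have hUk : RingHom.ker (iY.app U.1).hom = iY.ker.ideal U := (Scheme.Hom.ker_apply iY U).symm
  refine H (f'.appLE U.1 V.1 e) (iY.app U.1) (iX.app V.1) (f.appLE (iY ⁻¹ᵁ U.1) (iX ⁻¹ᵁ V.1) hle) ?_
    (iY.app_surjective U.1 U.2) hVs (hUk ▸ isNilpotent_ideal hY U) ?_
    (HasRingHomProperty.appLE P f hf ⟨_, hUa⟩ ⟨_, hVa⟩ hle)
  · rw [Scheme.Hom.app_eq_appLE, Scheme.Hom.app_eq_appLE, Scheme.Hom.appLE_comp_appLE,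
      Scheme.Hom.appLE_comp_appLE]
    simp only [hc.w]
  · rw [hVk, hUk]

/-- Reduction of a property to ring maps, flat deformations. -/
theorem of_ring_flat {P : MorphismProperty Scheme.{u}}
    {Q : ∀ {R T : Type u} [CommRing R] [CommRing T], (R →+* T) → Prop} [HasRingHomProperty P Q]
    {f : X ⟶ Y} {f' : X' ⟶ Y'} {g : Y ⟶ S} {g' : Y' ⟶ S'} (hS : MoreMor.IsFiniteOrderThickening iS)
    (hcX : IsPullback iX (f ≫ g) (f' ≫ g') iS) (hcY : IsPullback iY g g' iS) (w : iX ≫ f' = f ≫ iY)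
    [Flat (f' ≫ g')] (hQ : RingHom.StableUnderCompositionWithLocalizationAwaySource Q) (hf : P f)
    (H : ∀ {A B C B₀ C₀ : CommRingCat.{u}} (I : Ideal A) (a : A ⟶ B) (φ : B ⟶ C) (qB : B ⟶ B₀) (qC : C ⟶ C₀)
      (φ₀ : B₀ ⟶ C₀), qB ≫ φ₀ = φ ≫ qC → Function.Surjective qB.hom → Function.Surjective qC.hom →
      IsNilpotent I → RingHom.ker qB.hom = I.map a.hom → RingHom.ker qC.hom = I.map (φ.hom.comp a.hom) →
      (φ.hom.comp a.hom).Flat → Q φ₀.hom → Q φ.hom) : P f' := by
  haveI := hS.1.1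
  have hY := isFiniteOrderThickening_baseChange hS hcY
  haveI := hY.1.1
  rw [HasRingHomProperty.iff_exists_appLE (P := P) hQ]
  intro x
  obtain ⟨_, ⟨U, hU, rfl⟩, hyU, -⟩ :=
    S'.isBasis_affineOpens.exists_subset_of_mem_open (Set.mem_univ (g' (f' x))) isOpen_univ
  obtain ⟨_, ⟨V, hV, rfl⟩, hyV, hVU⟩ :=
    Y'.isBasis_affineOpens.exists_subset_of_mem_open (show f' x ∈ g' ⁻¹ᵁ U from hyU) (g' ⁻¹ᵁ U).isOpen
  obtain ⟨_, ⟨W, hW, rfl⟩, hxW, hWV⟩ :=
    X'.isBasis_affineOpens.exists_subset_of_mem_open (show x ∈ f' ⁻¹ᵁ V from hyV) (f' ⁻¹ᵁ V).isOpen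
  refine ⟨⟨V, hV⟩, ⟨W, hW⟩, hxW, hWV, ?_⟩
  have eWU : W ≤ (f' ≫ g') ⁻¹ᵁ U := fun z hz => hVU (hWV hz)
  obtain ⟨hVa, hVs, hVk⟩ := chart hcY ⟨U, hU⟩ ⟨V, hV⟩ hVU
  obtain ⟨hWa, hWs, hWk⟩ := chart hcX ⟨U, hU⟩ ⟨W, hW⟩ eWU
  have hle : iX ⁻¹ᵁ W ≤ f ⁻¹ᵁ (iY ⁻¹ᵁ V) := by
    rw [← Scheme.Hom.comp_preimage, ← w, Scheme.Hom.comp_preimage]
    exact fun z hz => hWV hz
  have hcomp : (f'.appLE V W hWV).hom.comp (g'.appLE U V hVU).hom = ((f' ≫ g').appLE U W eWU).hom := by
    rw [← CommRingCat.hom_comp, Scheme.Hom.appLE_comp_appLE]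
  refine H (iS.ker.ideal ⟨U, hU⟩) (g'.appLE U V hVU) (f'.appLE V W hWV) (iY.app V) (iX.app W)
    (f.appLE (iY ⁻¹ᵁ V) (iX ⁻¹ᵁ W) hle) ?_ hVs hWs (isNilpotent_ideal hS ⟨U, hU⟩) hVk (hcomp.symm ▸ hWk)
    (hcomp.symm ▸ HasRingHomProperty.appLE @Flat (f' ≫ g') inferInstance ⟨U, hU⟩ ⟨W, hW⟩ eWU)
    (HasRingHomProperty.appLE P f hf ⟨_, hVa⟩ ⟨_, hWa⟩ hle)
  rw [Scheme.Hom.app_eq_appLE, Scheme.Hom.app_eq_appLE, Scheme.Hom.appLE_comp_appLE,
    Scheme.Hom.appLE_comp_appLE]
  simp only [w]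

section OneBase

variable {f : X ⟶ Y} {f' : X' ⟶ Y'}

theorem locallyOfFiniteType_lift (hY : MoreMor.IsFiniteOrderThickening iY) (hc : IsPullback iX f f' iY)
    [LocallyOfFiniteType f] : LocallyOfFiniteType f' :=
  of_ring (P := @LocallyOfFiniteType) hY hc ‹_› fun φ qB qC φ₀ hsq hB hC hn hk h =>
    finiteType (RingHom.ker qB.hom) hn (congrArg CommRingCat.Hom.hom hsq) hB hC hk.le h

theorem formallyUnramified_lift (hY : MoreMor.IsFiniteOrderThickening iY) (hc : IsPullback iX f f' iY)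
    [FormallyUnramified f] : FormallyUnramified f' :=
  of_ring (P := @FormallyUnramified) hY hc ‹_› fun φ qB qC φ₀ hsq hB hC hn hk h =>
    formallyUnramified (RingHom.ker qB.hom) hn (congrArg CommRingCat.Hom.hom hsq) hB hC hk h

theorem mono_lift (hY : MoreMor.IsFiniteOrderThickening iY) (hc : IsPullback iX f f' iY)
    [Mono f] : Mono f' := by
  haveI : FormallyUnramified f' := formallyUnramified_lift hY hc
  refine ⟨fun {T} g₁ g₂ h => ?_⟩
  have hT := isFiniteOrderThickening_baseChange hY (IsPullback.of_hasPullback (g₁ ≫ f') iY)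
  haveI := hT.1.1
  refine FormallyUnramified.hom_ext (pullback.fst (g₁ ≫ f') iY) hT.2 f' ?_ h
  have e₁ : (pullback.fst (g₁ ≫ f') iY ≫ g₁) ≫ f' = pullback.snd (g₁ ≫ f') iY ≫ iY := by
    rw [Category.assoc, pullback.condition]
  have e₂ : (pullback.fst (g₁ ≫ f') iY ≫ g₂) ≫ f' = pullback.snd (g₁ ≫ f') iY ≫ iY := by
    rw [Category.assoc, ← h, pullback.condition]
  have he : hc.lift _ _ e₁ = hc.lift _ _ e₂ := by
    rw [← cancel_mono f, hc.lift_snd, hc.lift_snd]
  rw [← hc.lift_fst _ _ e₁, ← hc.lift_fst _ _ e₂, he]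

end OneBase

section Deformation

variable {f : X ⟶ Y} {f' : X' ⟶ Y'} {g : Y ⟶ S} {g' : Y' ⟶ S'}
  (hS : MoreMor.IsFiniteOrderThickening iS) (hcX : IsPullback iX (f ≫ g) (f' ≫ g') iS)
  (hcY : IsPullback iY g g' iS) (w : iX ≫ f' = f ≫ iY) [Flat (f' ≫ g')]
include hS hcX hcY w

theorem flat_lift [Flat f] : Flat f' :=
  of_ring_flat (P := @Flat) hS hcX hcY w
    (RingHom.Flat.stableUnderComposition.stableUnderCompositionWithLocalizationAway
      RingHom.Flat.holdsForLocalizationAway).left ‹_›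
    fun I a φ qB qC φ₀ hsq hB hC hI hkB hkC hfl h =>
      flat I hI a.hom hfl (congrArg CommRingCat.Hom.hom hsq) hB hC hkB hkC h

theorem locallyOfFinitePresentation_lift [LocallyOfFinitePresentation f] : LocallyOfFinitePresentation f' :=
  of_ring_flat (P := @LocallyOfFinitePresentation) hS hcX hcY w
    (RingHom.finitePresentation_stableUnderComposition.stableUnderCompositionWithLocalizationAway
      RingHom.finitePresentation_holdsForLocalizationAway).left ‹_›
    fun I a φ qB qC φ₀ hsq hB hC hI hkB hkC hfl h =>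
      finitePresentation I hI a.hom hfl (congrArg CommRingCat.Hom.hom hsq) hB hC hkB hkC h

theorem fiberToSpecResidueField_lift (P : MorphismProperty Scheme.{u}) [P.IsStableUnderBaseChange]
    [P.RespectsIso] (hf : P f) (y' : Y') : P (f'.fiberToSpecResidueField y') := by
  have hc : IsPullback iX f f' iY := IsPullback.of_bot hcX w hcY
  have hY := (isFiniteOrderThickening_baseChange hS hcY).1
  haveI := hY.1
  haveI := hY.2
  obtain ⟨y, rfl⟩ := iY.surjective y'
  obtain ⟨e, he, -⟩ := ConsPropLib.exists_fibre_pullback hc y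
  haveI := S1381.isIso_residueFieldMap iY y
  haveI : IsIso e := he.isIso_fst_of_isIso
  rw [show f'.fiberToSpecResidueField (iY y) =
    inv e ≫ f.fiberToSpecResidueField y ≫ Spec.map (iY.residueFieldMap y) from (IsIso.eq_inv_comp e).2 he.w,
    P.cancel_left_of_respectsIso, P.cancel_right_of_respectsIso]
  exact P.of_isPullback (IsPullback.of_hasPullback f (Y.fromSpecResidueField y)) hf

theorem smooth_lift [Smooth f] : Smooth f' := by
  haveI : Flat f' := flat_lift hS hcX hcY w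
  haveI : LocallyOfFinitePresentation f' := locallyOfFinitePresentation_lift hS hcX hcY w
  rw [← Scheme.Hom.smoothLocus_eq_top_iff, eq_top_iff]
  intro x _
  haveI : Smooth (f'.fiberToSpecResidueField (f' x)) :=
    fiberToSpecResidueField_lift hS hcX hcY w (@Smooth) inferInstance _
  rw [S2156.result f' x]
  exact ⟨Flat.stalkMap f' x, by
    rw [(f'.fiberToSpecResidueField (f' x)).smoothLocus_eq_top]; trivial⟩

theorem etale_lift [Etale f] : Etale f' := by
  haveI : Flat f' := flat_lift hS hcX hcY w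
  haveI : LocallyOfFinitePresentation f' := locallyOfFinitePresentation_lift hS hcX hcY w
  haveI : FormallyUnramified f' :=
    formallyUnramified_lift (isFiniteOrderThickening_baseChange hS hcY) (IsPullback.of_bot hcX w hcY)
  exact Etale.of_formallyUnramified_of_flat f'

theorem isOpenImmersion_lift [IsOpenImmersion f] : IsOpenImmersion f' := by
  haveI : Etale f' := etale_lift hS hcX hcY w
  have hY := (isFiniteOrderThickening_baseChange hS hcY).1
  have hc : IsPullback iX f f' iY := IsPullback.of_bot hcX w hcY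
  haveI : UniversallyInjective f' :=
    (MorLib.thickening_universallyInjective_iff (ThickDeform.isThickening_baseChange hY hc) hY w).1 inferInstance
  exact Pi1X.isOpenImmersion_of_etale_universallyInjective f'

theorem isIso_lift [IsIso f] : IsIso f' := by
  haveI : IsOpenImmersion f' := isOpenImmersion_lift hS hcX hcY w
  have hY := (isFiniteOrderThickening_baseChange hS hcY).1
  haveI := hY.2
  haveI : Surjective f' := ⟨fun y' => by
    obtain ⟨y, rfl⟩ := iY.surjective y'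
    exact ⟨iX (inv f y), by
      rw [← Scheme.Hom.comp_apply, w, Scheme.Hom.comp_apply, ← Scheme.Hom.comp_apply (inv f) f, IsIso.inv_hom_id]
      simp⟩⟩
  exact (isIso_iff_isOpenImmersion_and_surjective f').mpr ⟨inferInstance, inferInstance⟩

theorem isFinLocFreeOfDeg_lift {d : ℕ} (h : Mor2.IsFinLocFreeOfDeg d f) : Mor2.IsFinLocFreeOfDeg d f' := by
  obtain ⟨⟨h1, h2, h3⟩, hd⟩ := h
  haveI : Flat f' := flat_lift hS hcX hcY w
  haveI : LocallyOfFinitePresentation f' := locallyOfFinitePresentation_lift hS hcX hcY w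
  have hY := (isFiniteOrderThickening_baseChange hS hcY).1
  have hc : IsPullback iX f f' iY := IsPullback.of_bot hcX w hcY
  have hX := ThickDeform.isThickening_baseChange hY hc
  haveI := hY.1
  haveI := hY.2
  haveI := hX.1
  haveI := hX.2
  haveI : IsIntegralHom f' := (MorLib.Thick.isIntegralHom_iff iX iY f f' w).1 inferInstance
  haveI : IsFinite f' := (IsFinite.iff_isIntegralHom_and_locallyOfFiniteType f').mpr ⟨inferInstance, inferInstance⟩
  refine ⟨⟨inferInstance, inferInstance, inferInstance⟩, fun y' => ?_⟩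
  obtain ⟨y, rfl⟩ := iY.surjective y'
  rw [← Scheme.Hom.finrank_of_isPullback iX f f' iY hc y, hd]

end Deformation

end Groth.Agent.ThickFin
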