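import Groth.Agent.LocalCrit.Fibre
import Mathlib.RingTheory.RingHom.Flat
import Mathlib.RingTheory.RingHom.FinitePresentation
import Mathlib.RingTheory.RingHom.Unramified
import Mathlib.RingTheory.Smooth.Quotient
import Mathlib.RingTheory.Kaehler.Basic
import Mathlib.LinearAlgebra.TensorProduct.Quotient

/-!
# Ring maps which have a property modulo a nilpotent ideal
-/

set_option autoImplicit false
universe u

namespace Groth.Agent.ThickFin

/-- Nakayama's lemma for a nilpotent ideal, without finiteness. -/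
theorem le_of_le_sup_smul {R M : Type*} [CommRing R] [AddCommGroup M] [Module R M] {J : Ideal R}
    (hJ : IsNilpotent J) {S T : Submodule R M} (h : T ≤ S ⊔ J • T) : T ≤ S := by
  obtain ⟨n, hn⟩ := hJ
  have key : ∀ m : ℕ, T ≤ S ⊔ J ^ m • T := by
    intro m
    induction m with
    | zero => rw [pow_zero, Ideal.one_eq_top, Submodule.top_smul]; exact le_sup_right
    | succ m ih =>
      refine h.trans (sup_le le_sup_left ((Submodule.smul_mono le_rfl ih).trans ?_))
      rw [Submodule.smul_sup, pow_succ', mul_smul]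
      exact sup_le_sup_right Submodule.smul_le_right _
  refine (key n).trans ?_
  rw [hn, Ideal.zero_eq_bot, Submodule.bot_smul, sup_bot_eq]

variable {A B C B₀ C₀ : Type u} [CommRing A] [CommRing B] [CommRing C] [CommRing B₀] [CommRing C₀]
  {φ : B →+* C} {qB : B →+* B₀} {qC : C →+* C₀} {φ₀ : B₀ →+* C₀}

/-- A ring map of finite type modulo a nilpotent ideal is of finite type. -/
theorem finiteType (J : Ideal B) (hJ : IsNilpotent J) (hsq : φ₀.comp qB = qC.comp φ)
    (hB : Function.Surjective qB) (hC : Function.Surjective qC) (hkC : RingHom.ker qC ≤ J.map φ)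
    (h : φ₀.FiniteType) : φ.FiniteType := by
  have h1 : (qC.comp φ).FiniteType := hsq ▸ h.comp (.of_surjective qB hB)
  algebraize [φ]
  letI := (qC.comp φ).toAlgebra
  let q : C →ₐ[B] C₀ := { qC with commutes' := fun _ => rfl }
  haveI : Algebra.FiniteType B C₀ := h1
  obtain ⟨n, π, hπ⟩ := Algebra.FiniteType.iff_quotient_mvPolynomial''.1 ‹Algebra.FiniteType B C₀›
  choose g hg using fun i => hC (π (MvPolynomial.X i))
  let ρ : MvPolynomial (Fin n) B →ₐ[B] C := MvPolynomial.aeval g
  have hρ : q.comp ρ = π := MvPolynomial.algHom_ext fun i => by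
    rw [AlgHom.comp_apply, MvPolynomial.aeval_X]; exact hg i
  refine Algebra.FiniteType.of_surjective ρ fun c => ?_
  have : (⊤ : Submodule B C) ≤ LinearMap.range ρ.toLinearMap := by
    refine le_of_le_sup_smul hJ fun c _ => ?_
    obtain ⟨p, hp⟩ := hπ (q c)
    have hc : c - ρ p ∈ (J • ⊤ : Submodule B C) := by
      rw [Ideal.smul_top_eq_map]
      refine hkC ?_
      rw [RingHom.mem_ker, map_sub, sub_eq_zero]
      exact (hp.symm.trans (DFunLike.congr_fun hρ p).symm)
    rw [← sub_add_cancel c (ρ p)]
    exact add_mem (Submodule.mem_sup_right hc) (Submodule.mem_sup_left ⟨p, rfl⟩)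
  exact this (Submodule.mem_top : c ∈ ⊤)

/-- A ring map formally unramified modulo a nilpotent ideal is formally unramified. -/
theorem formallyUnramified (J : Ideal B) (hJ : IsNilpotent J) (hsq : φ₀.comp qB = qC.comp φ)
    (hB : Function.Surjective qB) (hC : Function.Surjective qC) (hkC : RingHom.ker qC = J.map φ)
    (h : φ₀.FormallyUnramified) : φ.FormallyUnramified := by
  have h1 : (qC.comp φ).FormallyUnramified :=
    hsq ▸ RingHom.FormallyUnramified.stableUnderComposition _ _ (RingHom.FormallyUnramified.of_surjective hB) h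
  algebraize [φ]
  letI := (qC.comp φ).toAlgebra
  let q : C →ₐ[B] C₀ := { qC with commutes' := fun _ => rfl }
  letI := qC.toAlgebra
  haveI : IsScalarTower B C C₀ := .of_algebraMap_eq fun _ => rfl
  haveI : Algebra.FormallyUnramified B C₀ := h1
  rw [show φ.FormallyUnramified ↔ Algebra.FormallyUnramified B C from Iff.rfl,
    Algebra.formallyUnramified_iff]
  -- the differentials modulo the ideal form a module over `C₀` killed by every derivation
  have hdiff : ∀ c : C, KaehlerDifferential.D B C c ∈
      RingHom.ker qC • (⊤ : Submodule C (KaehlerDifferential B C)) := by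
    let K := RingHom.ker qC
    let M := KaehlerDifferential B C ⧸ (K • (⊤ : Submodule C (KaehlerDifferential B C)))
    let Dbar : Derivation B C M := (Submodule.mkQ _).compDer (KaehlerDifferential.D B C)
    have hkill : ∀ k ∈ K, ∀ m : M, k • m = 0 := by
      intro k hk m
      obtain ⟨m, rfl⟩ := Submodule.Quotient.mk_surjective _ m
      rw [← Submodule.Quotient.mk_smul, Submodule.Quotient.mk_eq_zero]
      exact Submodule.smul_mem_smul hk trivial
    let e : C ⧸ K ≃+* C₀ := RingHom.quotientKerEquivOfSurjective hC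
    haveI : Algebra.FormallyUnramified B (C ⧸ K) := Algebra.FormallyUnramified.of_equiv
      (AlgEquiv.ofRingEquiv (f := e) fun _ => rfl).symm
    have hT : Module.IsTorsionBySet C M (K : Set C) := fun m a => hkill a.1 a.2 m
    letI : Module (C ⧸ K) M :=
      Module.IsTorsionBySet.module hT
    haveI : IsScalarTower C (C ⧸ K) M :=
      Module.IsTorsionBySet.isScalarTower hT
    haveI : IsScalarTower B (C ⧸ K) M := IsScalarTower.of_algebraMap_smul fun b m => by
      rw [IsScalarTower.algebraMap_apply B C (C ⧸ K), algebraMap_smul, algebraMap_smul]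
    -- `K = K'`: the derivation descends once it kills `K`
    have hK : ∀ k ∈ K, Dbar k = 0 := by
      intro k hk
      have hk' : k ∈ J.map φ := hkC ▸ hk
      refine Submodule.span_induction ?_ (map_zero _) (fun x y _ _ hx hy => by rw [map_add, hx, hy, add_zero])
        (fun c x hx' hx => ?_) hk'
      · rintro _ ⟨j, -, rfl⟩
        exact Derivation.map_algebraMap Dbar j
      · rw [smul_eq_mul, Derivation.leibniz, hx, smul_zero, zero_add]
        refine hkill x ?_ _
        change x ∈ RingHom.ker qC
        rw [hkC]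
        exact hx'
    let L : (C ⧸ K) →ₗ[B] M :=
      (Submodule.liftQ (K.restrictScalars B) Dbar.toLinearMap hK) ∘ₗ
        (Submodule.Quotient.restrictScalarsEquiv B K).symm.toLinearMap
    let D₀ : Derivation B (C ⧸ K) M := Derivation.mk' L fun x y => by
      obtain ⟨x, rfl⟩ := Ideal.Quotient.mk_surjective x
      obtain ⟨y, rfl⟩ := Ideal.Quotient.mk_surjective y
      change Dbar (x * y) = (algebraMap C (C ⧸ K) x) • Dbar y + (algebraMap C (C ⧸ K) y) • Dbar x
      rw [algebraMap_smul, algebraMap_smul, Derivation.leibniz]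
    intro c
    have h0 : D₀ (Ideal.Quotient.mk K c) = 0 := by
      rw [← Derivation.liftKaehlerDifferential_comp_D D₀ (Ideal.Quotient.mk K c),
        Subsingleton.elim (KaehlerDifferential.D B (C ⧸ K) (Ideal.Quotient.mk K c)) 0, map_zero]
    exact (Submodule.Quotient.mk_eq_zero _).1 h0
  have htop : (⊤ : Submodule C (KaehlerDifferential B C)) ≤ ⊥ := by
    refine le_of_le_sup_smul (hJ.map (Ideal.mapHom φ)) (le_sup_right.trans' ?_)
    rw [← KaehlerDifferential.span_range_derivation, Submodule.span_le]
    rintro _ ⟨c, rfl⟩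
    rw [KaehlerDifferential.span_range_derivation]
    exact Submodule.smul_mono_left hkC.le (hdiff c)
  exact ⟨fun a b => ((Submodule.mem_bot C).1 (htop trivial)).trans
    ((Submodule.mem_bot C).1 (htop trivial : b ∈ ⊥)).symm⟩

/-- Fibrewise flatness for a nilpotent ideal, in terms of the quotient maps. -/
theorem flat (I : Ideal A) (hI : IsNilpotent I) (a : A →+* B) (hflat : (φ.comp a).Flat)
    (hsq : φ₀.comp qB = qC.comp φ) (hB : Function.Surjective qB) (hC : Function.Surjective qC)
    (hkB : RingHom.ker qB = I.map a) (hkC : RingHom.ker qC = I.map (φ.comp a))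
    (h : φ₀.Flat) : φ.Flat := by
  algebraize [a, φ, φ.comp a]
  set J := I.map (algebraMap A B) with hJdef
  have hJC : RingHom.ker qC = J.map (algebraMap B C) := by rw [hkC, ← Ideal.map_map]; rfl
  let eB : (B ⧸ J) ≃+* B₀ := (Ideal.quotEquivOfEq hkB.symm).trans (RingHom.quotientKerEquivOfSurjective hB)
  let eC : (C ⧸ J.map (algebraMap B C)) ≃+* C₀ := (Ideal.quotEquivOfEq hJC.symm).trans (RingHom.quotientKerEquivOfSurjective hC)
  have e1 : algebraMap (B ⧸ J) (C ⧸ J.map (algebraMap B C)) = (eC.symm.toRingHom.comp φ₀).comp eB.toRingHom := by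
    refine Ideal.Quotient.ringHom_ext (RingHom.ext fun b => ?_)
    apply eC.injective
    change qC (φ b) = eC (eC.symm (φ₀ (qB b)))
    rw [RingEquiv.apply_symm_apply]
    exact (RingHom.congr_fun hsq b).symm
  have h1 : (algebraMap (B ⧸ J) (C ⧸ J.map (algebraMap B C))).Flat := by
    rw [e1]
    exact RingHom.Flat.respectsIso.2 _ _ (RingHom.Flat.respectsIso.1 _ _ h)
  haveI : Module.Flat (B ⧸ J) (C ⧸ J.map (algebraMap B C)) := RingHom.flat_algebraMap_iff.1 h1
  have hr : (J • ⊤ : Submodule B C) = (J.map (algebraMap B C)).restrictScalars B := Ideal.smul_top_eq_map J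
  let e : TensorProduct B (B ⧸ J) C ≃ₗ[B] (C ⧸ J.map (algebraMap B C)) :=
    (TensorProduct.quotTensorEquivQuotSMul C J).trans ((Submodule.quotEquivOfEq _ _ hr).trans
      (Submodule.Quotient.restrictScalarsEquiv B (J.map (algebraMap B C))))
  haveI : Module.Flat (B ⧸ J) (TensorProduct B (B ⧸ J) C) :=
    Module.Flat.of_linearEquiv (LinearEquiv.extendScalarsOfSurjective Ideal.Quotient.mk_surjective e)
  exact LocalCrit.flat_of_isNilpotent J C (hI.map (Ideal.mapHom (algebraMap A B)))
    (LocalCrit.rTensor_map_injective I) (LocalCrit.keepsInjective_of_flat _ C)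

/-- A flat deformation of a map of finite presentation is of finite presentation. -/
theorem finitePresentation (I : Ideal A) (hI : IsNilpotent I) (a : A →+* B) (hflat : (φ.comp a).Flat)
    (hsq : φ₀.comp qB = qC.comp φ) (hB : Function.Surjective qB) (hC : Function.Surjective qC)
    (hkB : RingHom.ker qB = I.map a) (hkC : RingHom.ker qC = I.map (φ.comp a))
    (h : φ₀.FinitePresentation) : φ.FinitePresentation := by
  have hft : φ.FiniteType := finiteType (I.map a) (hI.map (Ideal.mapHom a)) hsq hB hC
    (by rw [hkC, ← Ideal.map_map]) (RingHom.FiniteType.of_finitePresentation h)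
  algebraize [a, φ, φ.comp a, φ₀, qB, qC, qC.comp φ]
  obtain ⟨n, π, hπ⟩ := Algebra.FiniteType.iff_quotient_mvPolynomial''.1 ‹Algebra.FiniteType B C›
  refine Algebra.FinitePresentation.of_surjective (f := π) hπ ?_
  let P := MvPolynomial (Fin n) B
  let P₀ := MvPolynomial (Fin n) B₀
  let r : P →+* P₀ := MvPolynomial.map qB
  let π₀ : P₀ →ₐ[B₀] C₀ := MvPolynomial.aeval fun i => qC (π (MvPolynomial.X i))
  have hcomm : ∀ p : P, π₀ (r p) = qC (π p) := by
    have he : π₀.toRingHom.comp r = qC.comp π.toRingHom := by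
      refine MvPolynomial.ringHom_ext (fun b => ?_) (fun i => ?_)
      · change π₀ (r (MvPolynomial.C b)) = qC (π (MvPolynomial.C b))
        rw [← MvPolynomial.algebraMap_eq, π.commutes]
        simp only [r, π₀, MvPolynomial.algebraMap_eq]
        erw [MvPolynomial.map_C, MvPolynomial.aeval_C]
        exact RingHom.congr_fun hsq b
      · change π₀ (r (MvPolynomial.X i)) = qC (π (MvPolynomial.X i))
        simp only [r, π₀]
        erw [MvPolynomial.map_X, MvPolynomial.aeval_X]
    exact RingHom.congr_fun he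
  have hrs : Function.Surjective r := MvPolynomial.map_surjective qB hB
  have hπ₀ : Function.Surjective π₀ := fun c => by
    obtain ⟨c, rfl⟩ := hC c
    obtain ⟨p, rfl⟩ := hπ c
    exact ⟨r p, hcomm p⟩
  obtain ⟨s, hs⟩ := Algebra.FinitePresentation.ker_fG_of_surjective π₀ hπ₀
  let J' : Ideal P := I.map ((algebraMap B P).comp a)
  have hIP : RingHom.ker r = J' := by
    rw [MvPolynomial.ker_map, hkB, Ideal.map_map]; rfl
  have hJC : RingHom.ker qC = J'.map π.toRingHom := by
    rw [hkC, Ideal.map_map, ← RingHom.comp_assoc, AlgHom.toRingHom_eq_coe, AlgHom.comp_algebraMap]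
    rfl
  have hlift : ∀ q ∈ s, ∃ p, π p = 0 ∧ r p = q := by
    intro q hq
    obtain ⟨l, rfl⟩ := hrs q
    have h0 : π l ∈ RingHom.ker qC := by
      rw [RingHom.mem_ker, ← hcomm]
      exact RingHom.mem_ker.mp (show r l ∈ RingHom.ker π₀.toRingHom from hs ▸ Ideal.subset_span hq)
    rw [hJC] at h0
    obtain ⟨e, he, hee⟩ := (Ideal.mem_map_iff_of_surjective π.toRingHom hπ).mp h0
    refine ⟨l - e, by rw [map_sub]; exact sub_eq_zero.mpr hee.symm, ?_⟩
    rw [map_sub, RingHom.mem_ker.mp (hIP ▸ he : e ∈ RingHom.ker r), sub_zero]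
  choose p hp0 hpr using hlift
  classical
  let t : Finset P := s.attach.image fun q => p q.1 q.2
  have hK₀ : Ideal.span (t : Set P) ≤ RingHom.ker π.toRingHom := by
    rw [Ideal.span_le]
    intro x hx
    obtain ⟨q, _, rfl⟩ := Finset.mem_image.mp (Finset.mem_coe.mp hx)
    exact hp0 q.1 q.2
  refine ⟨t, le_antisymm hK₀ ?_⟩
  set K := RingHom.ker π.toRingHom with hKdef
  refine le_of_le_sup_smul (hI.map (Ideal.mapHom ((algebraMap B P).comp a)) : IsNilpotent J') ?_
  intro x hx
  have h1 : r x ∈ (Ideal.span (t : Set P)).map r := by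
    have : r x ∈ RingHom.ker π₀.toRingHom := by
      change π₀ (r x) = 0
      rw [hcomm, show π x = 0 from hx, map_zero]
    rw [← hs] at this
    refine Ideal.span_le.mpr ?_ this
    intro q hq
    rw [SetLike.mem_coe, ← hpr q hq]
    exact Ideal.mem_map_of_mem r (Ideal.subset_span (Finset.mem_coe.mpr
      (Finset.mem_image.mpr ⟨⟨q, hq⟩, Finset.mem_attach _ _, rfl⟩)))
  obtain ⟨y, hy, hyx⟩ := (Ideal.mem_map_iff_of_surjective r hrs).mp h1
  have h2 : x - y ∈ J' := by rw [← hIP, RingHom.mem_ker, map_sub, hyx, sub_self]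
  let πA : P →ₗ[A] C := (π.restrictScalars A).toLinearMap
  have hJ'A : J' = I.map (algebraMap A P) :=
    congrArg (fun f => I.map f) (IsScalarTower.algebraMap_eq A B P).symm
  have h3 : x - y ∈ LinearMap.ker πA ⊓ (I • ⊤ : Submodule A P) :=
    ⟨show π (x - y) = 0 from K.sub_mem hx (hK₀ hy), by rw [Ideal.smul_top_eq_map, ← hJ'A]; exact h2⟩
  rw [LinearMap.ker_inf_smul_top_eq_smul_of_flat I πA hπ] at h3
  have h4 : x - y ∈ J' • K := by
    refine Submodule.smul_induction_on h3 (fun i hi k hk => ?_) fun a c => add_mem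
    rw [Algebra.smul_def, hJ'A]
    exact Ideal.mul_mem_mul (Ideal.mem_map_of_mem _ hi) hk
  rw [← add_sub_cancel y x]
  exact Submodule.add_mem_sup hy h4

end Groth.Agent.ThickFin
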